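import Cfsg.Agent.N2.Cl.Res.Base
import Cfsg.Agent.N2.Cl.Size
import Cfsg.Agent.SB.Idem.Form
import Cfsg.Agent.TH.Cl.Cases.Sim
import Cfsg.Agent.H905.SLBasic
import Cfsg.Agent.H925.NatConj
import Cfsg.Agent.ClassicalGeometry.IsoTransfer

/-!
# N2 (S3519), class S: the cores of the four kinds (helper94)

* `repL F hn`; `G0_L`, `not_sd_L`, `not_cj_L`, `ne_sl`, `charP_L`;
* `repH h F b hn`, the form `fm h b`, `unit_iff`, `fixes`, `trace_star`, `tr_inv`, `map_Iso_max`, `charP_H`;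
* unitary: `fixU`, `cj_U`, `not_sd_U`; symplectic: `fixA`, `sd_H`, `not_fixQ`, `not_cjOf_sp`;
  orthogonal: `qf Q b`, `fixQ`, `G0_O`, `not_cjOf_O`.
-/

set_option autoImplicit false
set_option linter.unusedSectionVars false

namespace Cfsg.Agent.N2C.Res

open Cfsg Cfsg.Geo Cfsg.Agent.DS.Cl Cfsg.Agent.DS.Cl.Fwd Subgroup Module Matrix
open Cfsg.Agent.SB.Cl (IsU IsSp IsO)
open Cfsg.Agent.H915.LD (Core Soc toSoc tr SD Cj FixA FixQ FixU)
open Cfsg.Agent.H925.Nat (CjOf)

/-! ### linear groups -/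

section L

variable {K : Type} [Field K] [Fintype K] {n : ℕ} (F : FR (LR (Fin n) K)) (hn : 0 < n)
  {H N : Subgroup (RingAut (LR (Fin n) K))} {p : ℕ}

/-- the natural module of a linear group -/
def repL : Rep F K n where
  ρ := RingHom.fst (Matrix (Fin n) (Fin n) K) (Matrix (Fin n) (Fin n) K)
  surj := fun M => ⟨LR.mk M 0, rfl⟩
  inj := fun u hu e => by
    obtain ⟨g, rfl⟩ := (LR.mem_gl u).2 hu.1
    rw [show g = 1 from Units.ext e, map_one]
  pos := hn

theorem repL_gl (g : GL (Fin n) K) : (repL F hn).gl (LR.gl g) = g := Units.ext rfl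

theorem map_Iso_L : F.Iso.map (repL F hn).gl = ⊤ :=
  eq_top_iff.2 fun g _ => ⟨LR.gl g, by rw [Size.Iso_LR]; exact ⟨g, rfl⟩, repL_gl F hn g⟩

theorem G0_L (h3 : 3 ≤ n) : (repL F hn).G0 = specialLinear (Fin n) K := by
  rw [Rep.G0, map_commutator, map_Iso_L]
  exact le_antisymm (Abelianization.commutator_subset_ker _)
    (H905.sl_le_of_commutator_le (by rwa [Fintype.card_fin]) le_top le_rfl)

variable {F}

theorem not_tw_L (r : Res F H N) (σ : K →+* K) : ¬ ∀ g ∈ (repL F hn).P N, σ (tr g) = tr g⁻¹ := fun h => by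
  let t := Matrix.traceAddMonoidHom (Fin n) K
  have h1 := add_zero r ((σ.toAddMonoidHom.comp t).comp (AddMonoidHom.fst _ _) - t.comp (AddMonoidHom.snd _ _))
    (fun u hu => by
      obtain ⟨g, rfl⟩ := (LR.mem_gl u).2 (lft_le_Iso F N hu).1
      exact sub_eq_zero.2 ((h g ⟨_, hu, repL_gl F hn g⟩).trans (Matrix.trace_transpose _).symm))
    (LR.mk 0 (Matrix.single ⟨0, hn⟩ ⟨0, hn⟩ 1))
  have h2 : σ (Matrix.trace (0 : Matrix (Fin n) (Fin n) K)) -
      Matrix.trace (Matrix.single (⟨0, hn⟩ : Fin n) (⟨0, hn⟩ : Fin n) (1 : K)) = 0 := h1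
  simp at h2

theorem not_sd_L (r : Res F H N) : ¬ SD ((repL F hn).P N) := fun h =>
  not_tw_L hn r (RingHom.id K) fun g hg => (h g hg).symm

theorem not_cj_L (r : Res F H N) (p : ℕ) [Fact p.Prime] [CharP K p] (k : ℕ) : ¬ Cj ((repL F hn).P N) (p ^ k) := fun h =>
  not_tw_L hn r (iterateFrobenius K p k) fun g hg => (iterateFrobenius_def p k _).trans (h g hg)

include hn in
theorem charP_L (c : Ctx F H p) : CharP K p := TH.Cl.Cases.charP_of_cast c.prime (TH.Cl.Cases.cast_LR hn c.char)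

theorem ne_sl (h3 : 3 ≤ n) (c : Ctx F H p) (r : Res F H N) : (repL F hn).P N ≠ specialLinear (Fin n) K := fun e =>
  (repL F hn).not_le_P c r (by rw [G0_L F hn h3, e])

end L

/-! ### forms -/

section H

variable {K V : Type} [Field K] [Fintype K] [AddCommGroup V] [Module K V] [Finite V] (h : HF K V) (F : FR h.EB)
  {n : ℕ} (b : Basis (Fin n) K V) (hn : 0 < n) {H N : Subgroup (RingAut h.EB)} {p : ℕ}

/-- the natural module of an isometry group -/
noncomputable def repH : Rep F K n where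
  ρ := SB.Idem.piB h b
  surj := (SB.Idem.piB_bij h b).2
  inj := fun _ _ e => Units.ext ((SB.Idem.piB_bij h b).1 (e.trans (map_one _).symm))
  pos := hn

/-- the form in coordinates -/
noncomputable def fm (u v : Fin n → K) : K := h.b (b.equivFun.symm u) (b.equivFun.symm v)

/-- a quadratic form in coordinates -/
noncomputable def qf (Q : QuadraticForm K V) (b : Basis (Fin n) K V) (u : Fin n → K) : K := Q (b.equivFun.symm u)

theorem ρ_mulVec (a : h.EB) (x : Fin n → K) :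
    b.equivFun.symm ((repH h F b hn).ρ a *ᵥ x) = h.ap a (b.equivFun.symm x) := by
  obtain ⟨v, rfl⟩ := b.equivFun.surjective x
  rw [LinearEquiv.symm_apply_apply, LinearEquiv.symm_apply_eq]
  exact LinearMap.toMatrix_mulVec_repr b b (h.ap a) v

theorem gl_surj : Function.Surjective (repH h F b hn).gl := fun g =>
  ⟨(Units.mapEquiv (RingEquiv.ofBijective _ (SB.Idem.piB_bij h b)).toMulEquiv).symm g,
    (Units.mapEquiv (RingEquiv.ofBijective _ (SB.Idem.piB_bij h b)).toMulEquiv).apply_symm_apply g⟩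

theorem unit_iff (u : h.EBˣ) : (u : h.EB) * star (u : h.EB) = 1 ↔
    ∀ x y, fm h b (((repH h F b hn).gl u : Matrix (Fin n) (Fin n) K) *ᵥ x)
      (((repH h F b hn).gl u : Matrix (Fin n) (Fin n) K) *ᵥ y) = fm h b x y := by
  simp only [h.unit_iff, fm, Rep.gl_val, ρ_mulVec]
  exact ⟨fun k x y => k _ _, fun k x y => by simpa using k (b.equivFun x) (b.equivFun y)⟩

theorem fm_nondeg : IsNondegenerateForm (fm h b) := fun v hv => by
  obtain ⟨u, hu⟩ := h.exists_ne (v := b.equivFun.symm v) fun e => hv (b.equivFun.symm.map_eq_zero_iff.1 e)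
  exact ⟨⟨b.equivFun u, by rwa [fm, LinearEquiv.symm_apply_apply]⟩,
    b.equivFun u, by rw [fm, LinearEquiv.symm_apply_apply]; exact h.ne_swap hu⟩

theorem fm_bilin (hτ : ∀ c, h.τ c = c) : IsBilinearForm (fm h b) :=
  ⟨fun _ _ _ => by rw [fm, map_add, h.add_left]; rfl, fun _ _ _ => by rw [fm, map_smul, h.smul_left]; rfl,
    fun _ _ _ => by rw [fm, map_add, h.add_right]; rfl, fun _ _ _ => by rw [fm, map_smul, h.smul_right, hτ]; rfl⟩

theorem fixes {W : Subgroup h.EBˣ} (hW : W ≤ F.Iso) : FixesForm (matrixSet (W.map (repH h F b hn).gl)) (fm h b) := by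
  rintro _ ⟨_, ⟨u, hu, rfl⟩, rfl⟩
  exact (unit_iff h F b hn u).1 (hW hu).1

/-- the trace of the adjoint -/
theorem trace_star (a : h.EB) : LinearMap.trace K V (h.ap (star a)) = h.τ (LinearMap.trace K V (h.ap a)) := by
  have : Module.Finite K V := Module.Finite.of_finite
  let X : AddSubgroup (End K V) :=
    { carrier := {a | LinearMap.trace K V (h.adj a) = h.τ (LinearMap.trace K V a)}
      add_mem' := fun {a c} (ha : _ = _) (hc : _ = _) => show _ = _ by rw [h.adj_add, map_add, map_add, map_add, ha, hc]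
      zero_mem' := show _ = _ by rw [show h.adj 0 = 0 from star_zero h.EB, map_zero, map_zero]
      neg_mem' := fun {a} (ha : _ = _) => show _ = _ by
        rw [show h.adj (-a) = -h.adj a from star_neg (h.eb a), map_neg, map_neg, map_neg, ha] }
  refine h.eq_top_of_ro X (fun u v => ?_) a
  let g : V →ₗ[K] K :=
    { toFun := fun y => h.τ (h.b u y)
      map_add' := fun _ _ => by rw [h.add_right, map_add]
      map_smul' := fun _ _ => by rw [h.smul_right, map_mul, h.τ_τ]; rfl }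
  have h1 : h.adj (h.ro u v) = g.smulRight v := LinearMap.ext fun y => h.ext_right fun x => by
    rw [h.b_adj, h.ro_apply, h.smul_left, LinearMap.smulRight_apply, h.smul_right, mul_comm]
    exact congrArg (· * _) (h.τ_τ _).symm
  change LinearMap.trace K V (h.adj (h.ro u v)) = h.τ (LinearMap.trace K V ((h.lin v).smulRight u))
  rw [h1, LinearMap.trace_smulRight, LinearMap.trace_smulRight]
  rfl

theorem tr_gl (u : h.EBˣ) : tr ((repH h F b hn).gl u) = LinearMap.trace K V (h.ap u) :=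
  (LinearMap.trace_eq_matrix_trace K b _).symm

theorem tr_inv {u : h.EBˣ} (hu : u ∈ F.Iso) : tr ((repH h F b hn).gl u)⁻¹ = h.τ (tr ((repH h F b hn).gl u)) := by
  rw [← map_inv, tr_gl, tr_gl, ← trace_star, Units.inv_eq_of_mul_eq_one_right hu.1]

include b hn in
theorem charP_H (c : Ctx F H p) : CharP K p :=
  TH.Cl.Cases.charP_of_cast c.prime (TH.Cl.Cases.cast_EB h (by rwa [finrank_eq_card_basis b, Fintype.card_fin]) c.char)

/-- bilinear forms: the core is self-dual -/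
theorem sd_H (hτ : ∀ c, h.τ c = c) (N : Subgroup (RingAut h.EB)) : SD ((repH h F b hn).P N) := by
  rintro _ ⟨u, hu, rfl⟩
  rw [tr_inv h F b hn (lft_le_Iso F N hu), hτ]

theorem map_Iso_max (hL : F.L = Lmax _) :
    F.Iso.map (repH h F b hn).gl = preserving (Units.coeHom (Matrix (Fin n) (Fin n) K)) (fm h b) := by
  ext g
  obtain ⟨u, rfl⟩ := gl_surj h F b hn g
  exact ⟨fun ⟨v, hv, e⟩ => e ▸ (unit_iff h F b hn v).1 hv.1,
    fun k => ⟨u, mem_Iso_max hL ((unit_iff h F b hn u).2 k), rfl⟩⟩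

variable {h}

/-! #### unitary groups -/

theorem tau_pow (hU : IsU h) {q : ℕ} (hq : Fintype.card K = q ^ 2) (x : K) : h.τ x = x ^ q := by
  obtain ⟨q', -, hq', hσ⟩ := H324.FC.exists_q (RingEquiv.ofRingHom h.τ h.τ (RingHom.ext h.τ_τ) (RingHom.ext h.τ_τ)) h.τ_τ
    hU.2
  rw [Nat.card_eq_fintype_card, hq] at hq'
  obtain rfl : q = q' := Nat.pow_left_injective two_ne_zero hq'
  exact hσ x

theorem fm_U (hU : IsU h) :
    IsUnitaryForm (RingEquiv.ofRingHom h.τ h.τ (RingHom.ext h.τ_τ) (RingHom.ext h.τ_τ)) (fm h b) :=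
  ⟨fun e => hU.2.elim fun c hc => hc (RingEquiv.congr_fun e c), h.τ_τ, fun _ _ _ => by rw [fm, map_add, h.add_left]; rfl,
    fun _ _ _ => by rw [fm, map_smul, h.smul_left]; rfl, fun _ _ => by rw [fm, h.swap, hU.1, one_mul]; rfl, fm_nondeg h b⟩

theorem fm_Upow (hU : IsU h) {q : ℕ} (hq : Fintype.card K = q ^ 2) : IsUnitaryFormPow q (fm h b) :=
  ⟨(fm_U b hU).add_left, (fm_U b hU).smul_left, fun v w => ((fm_U b hU).herm v w).trans (tau_pow hU hq _), fm_nondeg h b⟩

theorem fixU (hU : IsU h) (N : Subgroup (RingAut h.EB)) : FixU ((repH h F b hn).P N) :=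
  ⟨_, _, fm_U b hU, fixes h F b hn (lft_le_Iso F N)⟩

theorem cj_U (hU : IsU h) {q : ℕ} (hq : Fintype.card K = q ^ 2) (N : Subgroup (RingAut h.EB)) :
    Cj ((repH h F b hn).P N) q := by
  rintro _ ⟨u, hu, rfl⟩
  rw [tr_inv h F b hn (lft_le_Iso F N hu), tau_pow hU hq]

variable {F}

theorem not_sd_U (hU : IsU h) (r : Res F H N) : ¬ SD ((repH h F b hn).P N) := fun k => hU.2.elim fun c hc => hc
  (sub_eq_zero.1 ((repH h F b hn).add_tr r (h.τ.toAddMonoidHom - AddMonoidHom.id K).ker (by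
    rintro _ ⟨u, hu, rfl⟩
    exact sub_eq_zero.2 ((tr_inv h F b hn (lft_le_Iso F N hu)).symm.trans (k _ ⟨u, hu, rfl⟩))) c))

/-! #### symplectic groups -/

theorem fm_Sp (hS : IsSp h F) : IsSymplecticForm (fm h b) :=
  ⟨fm_bilin h b hS.1, fun _ _ => Size.alt_swap hS.2.1 _ _, fun _ => hS.2.1 _, fm_nondeg h b⟩

theorem fixA (hS : IsSp h F) (N : Subgroup (RingAut h.EB)) : FixA ((repH h F b hn).P N) :=
  ⟨_, fm_Sp b hS, fixes h F b hn (lft_le_Iso F N)⟩

theorem not_fixQ (hS : IsSp h F) (r : Res F H N) : ¬ FixQ ((repH h F b hn).P N) := by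
  rintro ⟨Q, hQ, hfix⟩
  obtain ⟨c, hc⟩ := H920.form_unique ((repH h F b hn).absIrr r) hQ.polar_bilinear hQ.nondegenerate
    (H914.fixesForm_polar hfix) (fm_bilin h b hS.1) (fixes h F b hn (lft_le_Iso F N))
  have hb : ∀ u v, h.b u v = c * QuadraticMap.polar Q (b.equivFun u) (b.equivFun v) := fun u v => by
    rw [← hc, fm, LinearEquiv.symm_apply_apply, LinearEquiv.symm_apply_apply]
  have hs : ∀ u v, h.b u v = h.b v u := fun u v => by rw [hb, hb, QuadraticMap.polar_comm]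
  let Q' : QuadraticForm K V := QuadraticMap.ofPolar (fun v => c * Q (b.equivFun v))
    (fun a v => by rw [map_smul, hQ.smul, smul_eq_mul]; ring)
    (fun x x' y => by
      have e : ∀ u v, QuadraticMap.polar (fun v => c * Q (b.equivFun v)) u v = h.b u v := fun u v => by
        rw [hb]; simp only [QuadraticMap.polar, map_add]; ring
      rw [e, e, e, h.add_left])
    fun a x y => by
      have e : ∀ u v, QuadraticMap.polar (fun v => c * Q (b.equivFun v)) u v = h.b u v := fun u v => by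
        rw [hb]; simp only [QuadraticMap.polar, map_add]; ring
      rw [e, e, h.smul_left, smul_eq_mul]
  have e : ∀ u v, QuadraticMap.polar Q' u v = h.b u v := fun u v => by
    change QuadraticMap.polar (fun v => c * Q (b.equivFun v)) u v = _
    rw [hb]; simp only [QuadraticMap.polar, map_add]; ring
  obtain ⟨l, hl⟩ := h.exists_op hS.1 (Q'.toBilin b)
  have hq : ∀ v, h.b v (h.ap l v) = Q' v := fun v =>
    (hl v v).trans (DFunLike.congr_fun (QuadraticMap.toQuadraticMap_toBilin Q' b) v)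
  have h1 : l + star l = 1 := h.ap_ext fun v => h.ext_right fun u => by
    rw [h.ap_add, h.add_right, h.b_star, hs (h.ap l u), hl, hl, h.ap_one, ← e, ← LinearMap.BilinMap.polar_toQuadraticMap,
      QuadraticMap.toQuadraticMap_toBilin]
  have h2 := r.quad l h1 fun u hu => SB.Idem.mem_Lmin_of h hS.1 hs fun v => by
    rw [h.ap_sub, h.sub_right, h.ap_mul, h.ap_mul, ← h.star_b, hq, hq, sub_eq_zero,
      ← Units.inv_eq_of_mul_eq_one_right (lft_le_Iso F N hu).1]
    have h3 := hfix _ ⟨_, ⟨_, inv_mem hu, rfl⟩, rfl⟩ (b.equivFun v)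
    have h4 := ρ_mulVec h F b hn (u⁻¹ : h.EBˣ) (b.equivFun v)
    rw [LinearEquiv.symm_apply_apply, LinearEquiv.symm_apply_eq] at h4
    exact congrArg (c * ·) (h4 ▸ h3)
  obtain ⟨v, hv⟩ := h.exists_ne (b.ne_zero ⟨0, hn⟩)
  set w := b ⟨0, hn⟩
  have h3 : h.eb (h.ro w w) ∈ F.L := by
    rw [hS.2.2]
    refine h.ap_ext fun y => h.ext_right fun x => ?_
    change _ = h.b x (-(h.b y w • w))
    rw [h.b_star, h.ap_eb, h.ro_apply, h.smul_left, ← neg_smul, h.smul_right, hS.1, Size.alt_swap hS.2.1 w y]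
    ring
  rw [h2] at h3
  obtain ⟨a, ha⟩ := h3
  have h4 : h.b v (h.ap (h.eb (h.ro w w)) v) = 0 := by
    rw [ha, h.ap_sub, h.sub_right, h.b_star, hs (h.ap a v), sub_self]
  rw [h.ap_eb, h.ro_apply, h.smul_right, hS.1] at h4
  exact hv (mul_self_eq_zero.1 h4)

theorem not_cjOf_sp (hS : IsSp h F) (c : Ctx F H p) (r : Res F H N) {m : ℕ} : ¬ CjOf (spGL m K) ((repH h F b hn).P N) :=
  fun k => (repH h F b hn).not_le_P c r (by
    have : Nonempty (Fin n) := ⟨⟨0, hn⟩⟩
    rintro _ ⟨u, hu, rfl⟩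
    exact (k.sp_mem_iff ((repH h F b hn).absIrr r) (fm_Sp b hS) (fixes h F b hn (lft_le_Iso F N)) _).2
      ((unit_iff h F b hn u).1 (F.comm_le_Iso hu).1))

/-! #### orthogonal groups -/

variable {Q : QuadraticForm K V}

theorem polar_qf (hO : IsO h F Q) : QuadraticMap.polar (qf Q b) = fm h b := by
  funext u v
  simp only [fm, hO.2.1, QuadraticMap.polar, qf, map_add]

theorem qf_nondeg (hO : IsO h F Q) : IsNondegenerateQuadraticForm (qf Q b) :=
  ⟨fun c v => by rw [qf, map_smul, QuadraticMap.map_smul, smul_eq_mul, sq]; rfl,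
    by rw [polar_qf b hO]; exact fm_bilin h b hO.1, by rw [polar_qf b hO]; exact fm_nondeg h b⟩

theorem map_Iso_O (hO : IsO h F Q) : F.Iso.map (repH h F b hn).gl = isometryGroup K (qf Q b) := by
  have key : ∀ u : h.EBˣ, u ∈ F.Iso ↔ (repH h F b hn).gl u ∈ isometryGroup K (qf Q b) := fun u => by
    rw [SB.Tor.mem_Iso_O hO, ClassicalGeometry.IsoTransfer.mem_isometryGroup_iff]
    simp only [qf, Rep.gl_val, ρ_mulVec]
    exact ⟨fun k x => k _, fun k x => by simpa using k (b.equivFun x)⟩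
  ext g
  obtain ⟨u, rfl⟩ := gl_surj h F b hn g
  exact ⟨fun ⟨v, hv, e⟩ => e ▸ (key v).1 hv, fun k => ⟨u, (key u).2 k, rfl⟩⟩

theorem G0_O (hO : IsO h F Q) : (repH h F b hn).G0 = omegaGL (qf Q b) := by
  rw [Rep.G0, map_commutator, map_Iso_O b hn hO, H925.Nat.omegaGL_eq]

theorem fixesQ (hO : IsO h F Q) (N : Subgroup (RingAut h.EB)) :
    FixesQuadForm (matrixSet ((repH h F b hn).P N)) (qf Q b) := by
  rintro _ ⟨g, hg, rfl⟩
  exact ClassicalGeometry.IsoTransfer.mem_isometryGroup_iff.1 (map_Iso_O b hn hO ▸ map_mono (lft_le_Iso F N) hg)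

theorem fixQ (hO : IsO h F Q) (N : Subgroup (RingAut h.EB)) : FixQ ((repH h F b hn).P N) :=
  ⟨_, qf_nondeg b hO, fixesQ b hn hO N⟩

theorem not_cjOf_O (hO : IsO h F Q) (c : Ctx F H p) (r : Res F H N) {ν : Type} [Fintype ν] [DecidableEq ν]
    {Q₁ : (ν → K) → K} (h1 : IsNondegenerateQuadraticForm Q₁) : ¬ CjOf (omegaGL Q₁) ((repH h F b hn).P N) :=
  fun k => (repH h F b hn).not_le_P c r (by
    have : Nonempty (Fin n) := ⟨⟨0, hn⟩⟩
    rw [G0_O b hn hO, ← k.omega_eq ((repH h F b hn).absIrr r) h1 (qf_nondeg b hO) (fixesQ b hn hO N)])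

theorem not_cjOf_sp_O (hO : IsO h F Q) (N : Subgroup (RingAut h.EB)) {m : ℕ} (hm : 2 ≤ m) :
    ¬ CjOf (spGL m K) ((repH h F b hn).P N) := fun k => k.sp_not_fixQ hm (fixQ b hn hO N)

end H

end Cfsg.Agent.N2C.Res
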